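import Mathlib
import Cfsg.Agent.H962.E7.Def

/-!
# S3482, rows R0 and R8: arithmetic (helper196)

* `prim_NN14`, `prim_NN18` : the primes of `NN q 14`, `NN q 18` are of class 14, 18;
* `NN_far` : `NN q 14` and `NN q 18` differ by more than 3; `NN18_small` : `NN q 18 ≤ 37` only for `q = 2`;
* `TT_odd` : `TT q 14`, `TT q 18` are odd.
-/

set_option autoImplicit false

namespace Cfsg.Agent.H196.E7

open Cfsg.Agent.H436 Cfsg.Agent.H962.E7

variable {q : ℕ}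

theorem NN14_def : NN q 14 = (q ^ 7 + 1) / ((q + 1) * Nat.gcd 7 (q + 1)) := by
  unfold NN
  norm_num

theorem NN18_def : NN q 18 = (q ^ 6 - q ^ 3 + 1) / Nat.gcd 3 (q + 1) := by
  unfold NN
  norm_num

/-- the value of the cyclotomic polynomial `Φ₁₄` -/
theorem exists_A (q : ℕ) : ∃ A : ℕ, (A : ℤ) = q ^ 6 - q ^ 5 + q ^ 4 - q ^ 3 + q ^ 2 - q + 1 ∧
    (q + 1) * A = q ^ 7 + 1 := by
  have h1 : q + 1 ∣ q ^ 7 + 1 ^ 7 := Odd.nat_add_dvd_pow_add_pow q 1 (by decide)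
  rw [one_pow] at h1
  obtain ⟨A, hA⟩ := h1
  refine ⟨A, ?_, hA.symm⟩
  have h2 : ((q : ℤ) + 1) * A = (q : ℤ) ^ 7 + 1 := by exact_mod_cast hA.symm
  have h3 : ((q : ℤ) + 1) ≠ 0 := by positivity
  apply mul_left_cancel₀ h3
  rw [h2]
  ring

theorem gcd_seven (q : ℕ) : Nat.gcd 7 (q + 1) = 1 ∨ Nat.gcd 7 (q + 1) = 7 :=
  (Nat.dvd_prime (by norm_num)).1 (Nat.gcd_dvd_left 7 (q + 1))

theorem gcd_three (q : ℕ) : Nat.gcd 3 (q + 1) = 1 ∨ Nat.gcd 3 (q + 1) = 3 :=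
  (Nat.dvd_prime (by norm_num)).1 (Nat.gcd_dvd_left 3 (q + 1))

/-- `NN q 14` -/
theorem NN14_spec (q : ℕ) : ∃ A : ℕ, (A : ℤ) = q ^ 6 - q ^ 5 + q ^ 4 - q ^ 3 + q ^ 2 - q + 1 ∧
    (q + 1) * A = q ^ 7 + 1 ∧ NN q 14 * Nat.gcd 7 (q + 1) = A := by
  obtain ⟨A, hA, hA2⟩ := exists_A q
  refine ⟨A, hA, hA2, ?_⟩
  have hg : Nat.gcd 7 (q + 1) ∣ A := by
    rcases gcd_seven q with h | h
    · rw [h]; exact one_dvd _
    · rw [h]
      have h1 : (7 : ℤ) ∣ (q : ℤ) + 1 := by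
        have := (Nat.gcd_dvd_right 7 (q + 1))
        rw [h] at this
        exact_mod_cast this
      have h2 : (7 : ℤ) ∣ (A : ℤ) := by
        rw [hA]
        have e : (q : ℤ) ^ 6 - q ^ 5 + q ^ 4 - q ^ 3 + q ^ 2 - q + 1 =
            7 + (q + 1) * (q ^ 5 - 2 * q ^ 4 + 3 * q ^ 3 - 4 * q ^ 2 + 5 * q - 6) := by ring
        rw [e]
        exact dvd_add (dvd_refl _) (h1.mul_right _)
      exact_mod_cast h2
  rw [NN14_def, ← hA2, Nat.mul_div_mul_left _ _ (Nat.succ_pos q)]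
  exact Nat.div_mul_cancel hg

theorem pow_three_le (q : ℕ) : q ^ 3 ≤ q ^ 6 := by
  rcases Nat.eq_zero_or_pos q with rfl | h
  · norm_num
  · exact Nat.pow_le_pow_right h (by norm_num)

/-- `NN q 18` -/
theorem NN18_spec (q : ℕ) : ∃ B : ℕ, (B : ℤ) = q ^ 6 - q ^ 3 + 1 ∧ NN q 18 * Nat.gcd 3 (q + 1) = B := by
  refine ⟨q ^ 6 - q ^ 3 + 1, ?_, ?_⟩
  · push_cast [Nat.cast_sub (pow_three_le q)]
    ring
  · rw [NN18_def]
    apply Nat.div_mul_cancel
    rcases gcd_three q with h | h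
    · rw [h]; exact one_dvd _
    · rw [h]
      have h1 : (3 : ℤ) ∣ (q : ℤ) + 1 := by
        have := (Nat.gcd_dvd_right 3 (q + 1))
        rw [h] at this
        exact_mod_cast this
      have h2 : (3 : ℤ) ∣ ((q ^ 6 - q ^ 3 + 1 : ℕ) : ℤ) := by
        push_cast [Nat.cast_sub (pow_three_le q)]
        have e : (q : ℤ) ^ 6 - q ^ 3 + 1 =
            3 + (q + 1) * (q ^ 5 - q ^ 4 + q ^ 3 - 2 * q ^ 2 + 2 * q - 2) := by ring
        rw [e]
        exact dvd_add (dvd_refl _) (h1.mul_right _)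
      exact_mod_cast h2

/-- criterion for `Prim` -/
theorem prim_of_orderOf {r e : ℕ} (hq : 1 ≤ q) (hr : r.Prime) (h : ¬ r ∣ q) (he : orderOf (q : ZMod r) = e) :
    Prim q e r := by
  refine ⟨hr, fun m => ?_, h⟩
  rw [← he, orderOf_dvd_iff_pow_eq_one, ← ZMod.natCast_eq_zero_iff, Nat.cast_sub (Nat.one_le_pow _ _ hq),
    Nat.cast_pow, Nat.cast_one, sub_eq_zero]

/-- **the primes of `NN q 14`** -/
theorem prim_NN14 (hq : 1 ≤ q) {r : ℕ} (hr : r.Prime) (h : r ∣ NN q 14) : Prim q 14 r := by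
  obtain ⟨A, hA, hA2, hN⟩ := NN14_spec q
  have : Fact r.Prime := ⟨hr⟩
  have hrA : r ∣ A := by rw [← hN]; exact h.mul_right _
  have hr7 : r ∣ q ^ 7 + 1 := by rw [← hA2]; exact hrA.mul_left _
  have hAo : ¬ 2 ∣ A := by
    intro h2
    have h3 : (2 : ℤ) ∣ (A : ℤ) := by exact_mod_cast h2
    rw [hA] at h3
    rcases Int.even_or_odd (q : ℤ) with ⟨s, hs⟩ | ⟨s, hs⟩
    · rw [hs] at h3
      have h4 : (2 : ℤ) ∣ 1 := by
        have e : (1 : ℤ) = ((s + s) ^ 6 - (s + s) ^ 5 + (s + s) ^ 4 - (s + s) ^ 3 + (s + s) ^ 2 - (s + s) + 1) -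
            2 * (s * ((s + s) ^ 5 - (s + s) ^ 4 + (s + s) ^ 3 - (s + s) ^ 2 + (s + s) - 1)) := by ring
        rw [e]
        exact dvd_sub h3 (Dvd.intro _ rfl)
      norm_num at h4
    · rw [hs] at h3
      have h4 : (2 : ℤ) ∣ 1 := by
        have e : (1 : ℤ) = ((2 * s + 1) ^ 6 - (2 * s + 1) ^ 5 + (2 * s + 1) ^ 4 - (2 * s + 1) ^ 3 + (2 * s + 1) ^ 2 -
            (2 * s + 1) + 1) - 2 * (s * ((2 * s + 1) ^ 5 + (2 * s + 1) ^ 3 + (2 * s + 1))) := by ring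
        rw [e]
        exact dvd_sub h3 (Dvd.intro _ rfl)
      norm_num at h4
  have hr2 : r ≠ 2 := fun h2 => hAo (h2 ▸ hrA)
  have hrq : ¬ r ∣ q := by
    intro hd
    have h1 : r ∣ 1 := by
      have h2 := hr7
      rwa [Nat.dvd_add_right (dvd_pow hd (by norm_num))] at h2
    exact hr.one_lt.ne' (Nat.dvd_one.1 h1)
  have hx7 : (q : ZMod r) ^ 7 = -1 := by
    have h1 : ((q ^ 7 + 1 : ℕ) : ZMod r) = 0 := (ZMod.natCast_eq_zero_iff _ _).2 hr7
    push_cast at h1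
    exact eq_neg_of_add_eq_zero_left h1
  have h1ne : (1 : ZMod r) ≠ -1 := by
    intro h1
    have h2 : ((2 : ℕ) : ZMod r) = 0 := by
      push_cast
      linear_combination h1
    rw [ZMod.natCast_eq_zero_iff] at h2
    exact hr2 ((Nat.prime_dvd_prime_iff_eq hr Nat.prime_two).1 h2)
  refine prim_of_orderOf hq hr hrq ?_
  have h14 : (q : ZMod r) ^ 14 = 1 := by
    have : (q : ZMod r) ^ 14 = ((q : ZMod r) ^ 7) ^ 2 := by rw [← pow_mul]
    rw [this, hx7]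
    norm_num
  have hd : orderOf (q : ZMod r) ∣ 14 := orderOf_dvd_of_pow_eq_one h14
  have h7 : ¬ orderOf (q : ZMod r) ∣ 7 := by
    intro h1
    exact h1ne ((orderOf_dvd_iff_pow_eq_one.1 h1).symm.trans hx7)
  have h2 : ¬ orderOf (q : ZMod r) ∣ 2 := by
    intro h1
    have hx2 := orderOf_dvd_iff_pow_eq_one.1 h1
    have hxm : (q : ZMod r) = -1 := by
      have e : (q : ZMod r) ^ 7 = ((q : ZMod r) ^ 2) ^ 3 * q := by ring
      rw [e, hx2, one_pow, one_mul] at hx7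
      exact hx7
    have hrq1 : r ∣ q + 1 := by
      rw [← ZMod.natCast_eq_zero_iff]
      push_cast
      rw [hxm]
      ring
    have hA7 : ((A : ℤ) : ZMod r) = 7 := by
      rw [hA]
      push_cast
      rw [hxm]
      norm_num
    have hr7' : r ∣ 7 := by
      rw [← ZMod.natCast_eq_zero_iff]
      rw [Int.cast_natCast, (ZMod.natCast_eq_zero_iff _ _).2 hrA] at hA7
      exact_mod_cast hA7.symm
    have hr7e : r = 7 := (Nat.prime_dvd_prime_iff_eq hr (by norm_num)).1 hr7'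
    subst hr7e
    have hg : Nat.gcd 7 (q + 1) = 7 := Nat.gcd_eq_left hrq1
    obtain ⟨t, ht⟩ := hrq1
    obtain ⟨k, hk⟩ := h
    rw [hg, hk] at hN
    have h3 : (q : ℤ) + 1 = 7 * t := by exact_mod_cast ht
    have h4 : (7 * k * 7 : ℤ) = q ^ 6 - q ^ 5 + q ^ 4 - q ^ 3 + q ^ 2 - q + 1 := by
      rw [← hA]
      exact_mod_cast hN
    have h5 : (49 : ℤ) ∣ 7 := by
      refine ⟨k + 3 * t - t ^ 2 * (q ^ 4 - 3 * q ^ 3 + 6 * q ^ 2 - 10 * q + 15), ?_⟩
      have e : (q : ℤ) ^ 6 - q ^ 5 + q ^ 4 - q ^ 3 + q ^ 2 - q + 1 =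
          7 - 21 * (q + 1) + (q + 1) ^ 2 * (q ^ 4 - 3 * q ^ 3 + 6 * q ^ 2 - 10 * q + 15) := by ring
      rw [e, h3] at h4
      linear_combination (-1 : ℤ) * h4
    norm_num at h5
  -- the divisors of 14
  have h3 : orderOf (q : ZMod r) ∈ Nat.divisors 14 := Nat.mem_divisors.2 ⟨hd, by norm_num⟩
  rw [show Nat.divisors 14 = {1, 2, 7, 14} by decide +kernel] at h3
  simp only [Finset.mem_insert, Finset.mem_singleton] at h3
  rcases h3 with h3 | h3 | h3 | h3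
  · exact absurd (by rw [h3]; norm_num) h7
  · exact absurd (by rw [h3]) h2
  · exact absurd (by rw [h3]) h7
  · exact h3

theorem z2_ne : ∀ x : ZMod 2, x ^ 6 - x ^ 3 + 1 ≠ 0 := by decide

theorem z3_eq : ∀ x : ZMod 3, x ^ 6 - x ^ 3 + 1 = 0 → x = -1 := by decide

/-- **the primes of `NN q 18`** -/
theorem prim_NN18 (hq : 1 ≤ q) {r : ℕ} (hr : r.Prime) (h : r ∣ NN q 18) : Prim q 18 r := by
  obtain ⟨B, hB, hN⟩ := NN18_spec q
  have : Fact r.Prime := ⟨hr⟩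
  have hrB : r ∣ B := by rw [← hN]; exact h.mul_right _
  have hxB : (q : ZMod r) ^ 6 - (q : ZMod r) ^ 3 + 1 = 0 := by
    have h1 : ((B : ℤ) : ZMod r) = 0 := by
      rw [Int.cast_natCast]
      exact (ZMod.natCast_eq_zero_iff _ _).2 hrB
    rw [hB] at h1
    push_cast at h1
    exact h1
  have hrq : ¬ r ∣ q := by
    intro hd
    have h1 : (q : ZMod r) = 0 := (ZMod.natCast_eq_zero_iff _ _).2 hd
    rw [h1] at hxB
    norm_num at hxB
  have hx9 : (q : ZMod r) ^ 9 = -1 := by linear_combination ((q : ZMod r) ^ 3 + 1) * hxB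
  have hr2 : r ≠ 2 := by
    rintro rfl
    exact z2_ne _ hxB
  have h1ne : (1 : ZMod r) ≠ -1 := by
    intro h1
    have h2 : ((2 : ℕ) : ZMod r) = 0 := by
      push_cast
      linear_combination h1
    rw [ZMod.natCast_eq_zero_iff] at h2
    exact hr2 ((Nat.prime_dvd_prime_iff_eq hr Nat.prime_two).1 h2)
  refine prim_of_orderOf hq hr hrq ?_
  have h18 : (q : ZMod r) ^ 18 = 1 := by
    have : (q : ZMod r) ^ 18 = ((q : ZMod r) ^ 9) ^ 2 := by rw [← pow_mul]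
    rw [this, hx9]
    norm_num
  have hd : orderOf (q : ZMod r) ∣ 18 := orderOf_dvd_of_pow_eq_one h18
  have h9 : ¬ orderOf (q : ZMod r) ∣ 9 := by
    intro h1
    exact h1ne ((orderOf_dvd_iff_pow_eq_one.1 h1).symm.trans hx9)
  have h6 : ¬ orderOf (q : ZMod r) ∣ 6 := by
    intro h1
    have hx6 := orderOf_dvd_iff_pow_eq_one.1 h1
    have hx3 : (q : ZMod r) ^ 3 = 2 := by linear_combination hx6 - hxB
    have h3 : (3 : ZMod r) = 0 := by
      have e : (q : ZMod r) ^ 6 = ((q : ZMod r) ^ 3) ^ 2 := by rw [← pow_mul]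
      rw [e, hx3] at hx6
      linear_combination hx6
    have hr3 : r ∣ 3 := by
      rw [← ZMod.natCast_eq_zero_iff]
      exact_mod_cast h3
    have hr3e : r = 3 := (Nat.prime_dvd_prime_iff_eq hr Nat.prime_three).1 hr3
    subst hr3e
    have hrq1 : 3 ∣ q + 1 := by
      have hx1 : (q : ZMod 3) = -1 := by
        exact z3_eq _ hxB
      rw [← ZMod.natCast_eq_zero_iff]
      push_cast
      rw [hx1]
      ring
    have hg : Nat.gcd 3 (q + 1) = 3 := Nat.gcd_eq_left hrq1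
    obtain ⟨t, ht⟩ := hrq1
    obtain ⟨k, hk⟩ := h
    rw [hg, hk] at hN
    have h4 : (q : ℤ) + 1 = 3 * t := by exact_mod_cast ht
    have h5 : (3 * k * 3 : ℤ) = q ^ 6 - q ^ 3 + 1 := by
      rw [← hB]
      exact_mod_cast hN
    have h6 : (9 : ℤ) ∣ 3 := by
      have e : (q : ℤ) ^ 6 - q ^ 3 + 1 =
          3 - 9 * (q + 1) + (q + 1) ^ 2 * (q ^ 4 - 2 * q ^ 3 + 3 * q ^ 2 - 5 * q + 7) := by ring
      refine ⟨k + 3 * t - t ^ 2 * (q ^ 4 - 2 * q ^ 3 + 3 * q ^ 2 - 5 * q + 7), ?_⟩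
      rw [e, h4] at h5
      linear_combination (-1 : ℤ) * h5
    norm_num at h6
  have h3 : orderOf (q : ZMod r) ∈ Nat.divisors 18 := Nat.mem_divisors.2 ⟨hd, by norm_num⟩
  rw [show Nat.divisors 18 = {1, 2, 3, 6, 9, 18} by decide +kernel] at h3
  simp only [Finset.mem_insert, Finset.mem_singleton] at h3
  rcases h3 with h3 | h3 | h3 | h3 | h3 | h3
  · exact absurd (by rw [h3]; norm_num) h9
  · exact absurd (by rw [h3]; norm_num) h6
  · exact absurd (by rw [h3]; norm_num) h9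
  · exact absurd (by rw [h3]) h6
  · exact absurd (by rw [h3]) h9
  · exact h3

/-- **`NN q 14` and `NN q 18` are far apart** -/
theorem NN_far (hq : 2 ≤ q) : NN q 14 + 3 < NN q 18 ∨ NN q 18 + 3 < NN q 14 := by
  obtain ⟨A, hA, -, hN⟩ := NN14_spec q
  obtain ⟨B, hB, hM⟩ := NN18_spec q
  obtain ⟨s, rfl⟩ : ∃ s, q = s + 2 := ⟨q - 2, by omega⟩
  have hs : (0 : ℤ) ≤ s := by positivity
  have h2 : (0 : ℤ) ≤ (s : ℤ) ^ 2 := by positivity
  have h3 : (0 : ℤ) ≤ (s : ℤ) ^ 3 := by positivity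
  have h4 : (0 : ℤ) ≤ (s : ℤ) ^ 4 := by positivity
  have h5 : (0 : ℤ) ≤ (s : ℤ) ^ 5 := by positivity
  have h6 : (0 : ℤ) ≤ (s : ℤ) ^ 6 := by positivity
  push_cast at hA hB
  ring_nf at hA hB
  rcases gcd_seven (s + 2) with g7 | g7 <;> rcases gcd_three (s + 2) with g3 | g3 <;>
    rw [g7] at hN <;> rw [g3] at hM
  · left; zify; zify at hN hM; linarith
  · right; zify; zify at hN hM; linarith
  · left; zify; zify at hN hM; linarith
  · left; zify; zify at hN hM; linarith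

theorem NN18_small (hq : 2 ≤ q) (h : NN q 18 ≤ 37) : q = 2 := by
  obtain ⟨B, hB, hM⟩ := NN18_spec q
  have h1 : B ≤ 111 := by
    rcases gcd_three q with g3 | g3 <;> rw [g3] at hM <;> omega
  by_contra hne
  obtain ⟨s, rfl⟩ : ∃ s, q = s + 3 := ⟨q - 3, by omega⟩
  have h2 : (0 : ℤ) ≤ (s : ℤ) ^ 2 := by positivity
  have h3 : (0 : ℤ) ≤ (s : ℤ) ^ 3 := by positivity
  have h4 : (0 : ℤ) ≤ (s : ℤ) ^ 4 := by positivity
  have h5 : (0 : ℤ) ≤ (s : ℤ) ^ 5 := by positivity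
  have h6 : (0 : ℤ) ≤ (s : ℤ) ^ 6 := by positivity
  push_cast at hB
  ring_nf at hB
  zify at h1
  linarith

theorem one_lt_NN14 (hq : 2 ≤ q) : 1 < NN q 14 := by
  obtain ⟨A, hA, -, hN⟩ := NN14_spec q
  by_contra hlt
  have h1 : A ≤ 7 := by
    rcases gcd_seven q with g7 | g7 <;> rw [g7] at hN <;> omega
  obtain ⟨s, rfl⟩ : ∃ s, q = s + 2 := ⟨q - 2, by omega⟩
  have h2 : (0 : ℤ) ≤ (s : ℤ) ^ 2 := by positivity
  have h3 : (0 : ℤ) ≤ (s : ℤ) ^ 3 := by positivity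
  have h4 : (0 : ℤ) ≤ (s : ℤ) ^ 4 := by positivity
  have h5 : (0 : ℤ) ≤ (s : ℤ) ^ 5 := by positivity
  have h6 : (0 : ℤ) ≤ (s : ℤ) ^ 6 := by positivity
  push_cast at hA
  ring_nf at hA
  zify at h1
  linarith

theorem one_lt_NN18 (hq : 2 ≤ q) : 1 < NN q 18 := by
  obtain ⟨B, hB, hM⟩ := NN18_spec q
  by_contra hlt
  have h1 : B ≤ 3 := by
    rcases gcd_three q with g3 | g3 <;> rw [g3] at hM <;> omega
  obtain ⟨s, rfl⟩ : ∃ s, q = s + 2 := ⟨q - 2, by omega⟩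
  have h2 : (0 : ℤ) ≤ (s : ℤ) ^ 2 := by positivity
  have h3 : (0 : ℤ) ≤ (s : ℤ) ^ 3 := by positivity
  have h4 : (0 : ℤ) ≤ (s : ℤ) ^ 4 := by positivity
  have h5 : (0 : ℤ) ≤ (s : ℤ) ^ 5 := by positivity
  have h6 : (0 : ℤ) ≤ (s : ℤ) ^ 6 := by positivity
  push_cast at hB
  ring_nf at hB
  zify at h1
  linarith

/-- **the tori of the classes 14 and 18 have odd order** -/
theorem TT_odd {p k : ℕ} (hc : p = 2 ∨ p = 13 ∨ p = 17) (hk : 1 ≤ k) {i : ℕ}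
    (hi : i ∈ ({14, 18} : Finset ℕ)) : ¬ 2 ∣ TT (p ^ k) i := by
  obtain ⟨B, hB, -⟩ := NN18_spec (p ^ k)
  have h36 := pow_three_le (p ^ k)
  simp only [Finset.mem_insert, Finset.mem_singleton] at hi
  rcases hc with rfl | hc
  · -- even
    obtain ⟨s, hs⟩ : ∃ s, 2 ^ k = 2 * s := ⟨2 ^ (k - 1), by rw [← pow_succ']; congr 1; omega⟩
    have hg : Nat.gcd 2 (2 ^ k - 1) = 1 := by
      have h1 : (2 ^ k - 1) % 2 = 1 := by
        have : 0 < 2 ^ k := by positivity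
        omega
      exact (Nat.coprime_primes Nat.prime_two (by norm_num : Nat.Prime 3) |>.2 (by norm_num) |> fun _ =>
        (Nat.coprime_two_left.2 (Nat.odd_iff.2 h1)))
    rcases hi with rfl | rfl
    · have : TT (2 ^ k) 14 = (2 ^ k) ^ 7 + 1 := by
        unfold TT
        norm_num [hg]
      rw [this]
      intro h2
      have h3 : 2 ∣ (2 ^ k) ^ 7 := by rw [hs]; exact (Dvd.intro _ rfl : 2 ∣ 2 * s).trans (dvd_pow_self _ (by norm_num))
      have h4 := (Nat.dvd_add_right h3).1 h2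
      norm_num at h4
    · have : TT (2 ^ k) 18 = (2 ^ k + 1) * ((2 ^ k) ^ 6 - (2 ^ k) ^ 3 + 1) := by
        unfold TT
        norm_num [hg]
      rw [this, Nat.prime_two.dvd_mul]
      rintro (h2 | h2)
      · omega
      · have h3 : 2 ∣ (2 ^ k) ^ 6 - (2 ^ k) ^ 3 := by
          rw [hs]
          exact Nat.dvd_sub ((Dvd.intro _ rfl : 2 ∣ 2 * s).trans (dvd_pow_self _ (by norm_num)))
            ((Dvd.intro _ rfl : 2 ∣ 2 * s).trans (dvd_pow_self _ (by norm_num)))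
        have h4 := (Nat.dvd_add_right h3).1 h2
        norm_num at h4
  · -- `q = 1 mod 4`
    obtain ⟨s, hs⟩ : ∃ s, p ^ k = 4 * s + 1 := by
      have h1 : p ^ k ≡ 1 [MOD 4] := by
        have h2 : p ≡ 1 [MOD 4] := by rcases hc with rfl | rfl <;> decide
        simpa using h2.pow k
      have h2 : p ^ k % 4 = 1 := h1
      exact ⟨p ^ k / 4, by omega⟩
    have hg : Nat.gcd 2 (p ^ k - 1) = 2 := Nat.gcd_eq_left (by omega)
    rw [hs] at hB h36 hg ⊢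
    rw [Nat.add_sub_cancel] at hg
    rcases hi with rfl | rfl
    · have : TT (4 * s + 1) 14 = ((4 * s + 1) ^ 7 + 1) / 2 := by
        unfold TT
        norm_num [hg]
      rw [this]
      have e : (4 * s + 1) ^ 7 + 1 = 2 * (2 * (4096 * s ^ 7 + 7168 * s ^ 6 + 5376 * s ^ 5 + 2240 * s ^ 4 +
          560 * s ^ 3 + 84 * s ^ 2 + 7 * s) + 1) := by ring
      rw [e, Nat.mul_div_cancel_left _ (by norm_num)]
      omega
    · have : TT (4 * s + 1) 18 = (4 * s + 1 + 1) * ((4 * s + 1) ^ 6 - (4 * s + 1) ^ 3 + 1) / 2 := by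
        unfold TT
        norm_num [hg]
      rw [this]
      have e : (4 * s + 1 + 1) * ((4 * s + 1) ^ 6 - (4 * s + 1) ^ 3 + 1) =
          2 * ((2 * s + 1) * ((4 * s + 1) ^ 6 - (4 * s + 1) ^ 3 + 1)) := by ring
      rw [e, Nat.mul_div_cancel_left _ (by norm_num), Nat.prime_two.dvd_mul]
      rintro (h2 | h2)
      · omega
      · have h3 : 2 ∣ (4 * s + 1) ^ 6 - (4 * s + 1) ^ 3 := by
          have o6 : Odd ((4 * s + 1) ^ 6) := Odd.pow ⟨2 * s, by ring⟩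
          have o3 : Odd ((4 * s + 1) ^ 3) := Odd.pow ⟨2 * s, by ring⟩
          exact (Nat.Odd.sub_odd o6 o3).two_dvd
        have h4 := (Nat.dvd_add_right h3).1 h2
        norm_num at h4

end Cfsg.Agent.H196.E7
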