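import Mathlib
import Cfsg.Agent.H196.E7.Num

/-!
# S3482: consequences of `Row` (helper196)

* `Row.exists_coq` : a coclique of seven primes greater than 3;
* `Row.nadj_two` : the primes of the classes 14 and 18 are not adjacent to 2.
-/

set_option autoImplicit false

namespace Cfsg.Agent.H196.E7

open Cfsg.Agent.H436 Cfsg.Agent.H962.E7

universe u

theorem two_le {p k : ℕ} (hp : p.Prime) (hk : 1 ≤ k) : 2 ≤ p ^ k :=
  hp.two_le.trans (Nat.le_self_pow (by omega) p)

/-- the primes of class `e` are `1` modulo `e` -/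
theorem dvd_sub_one {q e r : ℕ} (h : Prim q e r) : e ∣ r - 1 := by
  have : Fact r.Prime := ⟨h.prime⟩
  rw [← h.dvd_iff, ← ZMod.natCast_eq_zero_iff]
  have hq : 1 ≤ q := by
    rcases Nat.eq_zero_or_pos q with rfl | h1
    · exact absurd (dvd_zero r) h.not_dvd
    · exact h1
  rw [Nat.cast_sub (Nat.one_le_pow _ _ hq), Nat.cast_pow, ZMod.pow_card_sub_one_eq_one, Nat.cast_one, sub_self]
  intro h1
  exact h.not_dvd ((ZMod.natCast_eq_zero_iff _ _).1 h1)

theorem lt_of_prim {q e r : ℕ} (h : Prim q e r) : e < r := by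
  have h1 := Nat.le_of_dvd (by have := h.prime.two_le; omega) (dvd_sub_one h)
  have := h.prime.two_le
  omega

variable {p k : ℕ} {S : Type u} [Group S]

/-- **seven primes greater than 3, pairwise not adjacent** -/
theorem exists_coq (R : Row p k S) : ∃ ρ : Finset ℕ, (∀ r ∈ ρ, r.Prime) ∧ (∀ r ∈ ρ, r ∣ Nat.card S) ∧
    (∀ r ∈ ρ, ∀ s ∈ ρ, r ≠ s → ¬ ∃ x : S, orderOf x = r * s) ∧ (∀ r ∈ ρ, 3 < r) ∧ ρ.card = 7 := by
  classical
  have hq := two_le R.hp R.hk
  have hex : ∀ i ∈ C8, ∃ r, Prim (p ^ k) i r := fun i hi => exists_prim hq (by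
    simp only [C8, Finset.mem_insert, Finset.mem_singleton] at hi
    omega) (by
    simp only [C8, Finset.mem_insert, Finset.mem_singleton] at hi
    omega)
  choose! f hf using hex
  -- the classes which are present
  have hcard : C8.card = 8 := by decide
  obtain ⟨T, hT8, hT7, hTF⟩ : ∃ T ⊆ C8, T.card = 7 ∧ ∀ i ∈ T, Fl S (p ^ k) i := by
    by_cases hall : ∀ i ∈ C8, Fl S (p ^ k) i
    · obtain ⟨T, hT, hc⟩ := Finset.exists_subset_card_eq (s := C8) (n := 7) (by omega)
      exact ⟨T, hT, hc, fun i hi => hall i (hT hi)⟩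
    · push Not at hall
      obtain ⟨i, hi, hn⟩ := hall
      refine ⟨C8.erase i, Finset.erase_subset _ _, by rw [Finset.card_erase_of_mem hi, hcard], fun j hj => ?_⟩
      obtain ⟨hji, hj8⟩ := Finset.mem_erase.1 hj
      exact (R.one i hi j hj8 (Ne.symm hji)).resolve_left hn
  have hinj : Set.InjOn f (T : Set ℕ) := by
    intro i hi j hj hij
    exact (hf i (hT8 hi)).unique (hij ▸ hf j (hT8 hj))
  refine ⟨T.image f, ?_, ?_, ?_, ?_, by rw [Finset.card_image_of_injOn hinj, hT7]⟩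
  · intro r hr
    obtain ⟨i, hi, rfl⟩ := Finset.mem_image.1 hr
    exact (hf i (hT8 hi)).prime
  · intro r hr
    obtain ⟨i, hi, rfl⟩ := Finset.mem_image.1 hr
    exact (hTF i hi).dvd _ (hf i (hT8 hi))
  · intro r hr s hs hrs
    obtain ⟨i, hi, rfl⟩ := Finset.mem_image.1 hr
    obtain ⟨j, hj, rfl⟩ := Finset.mem_image.1 hs
    exact R.nad i (hT8 hi) j (hT8 hj) (fun h => hrs (by rw [h])) _ _ (hf i (hT8 hi)) (hf j (hT8 hj))
  · intro r hr
    obtain ⟨i, hi, rfl⟩ := Finset.mem_image.1 hr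
    have h1 := lt_of_prim (hf i (hT8 hi))
    have h2 := hT8 hi
    simp only [C8, Finset.mem_insert, Finset.mem_singleton] at h2
    omega

/-- **the primes of the classes 14 and 18 are not adjacent to 2** -/
theorem nadj_two (R : Row p k S) {i : ℕ} (hi : i ∈ ({14, 18} : Finset ℕ)) {r : ℕ} (hr : Prim (p ^ k) i r) :
    ¬ ∃ x : S, orderOf x = 2 * r := by
  rintro ⟨x, hx⟩
  have h4 : i ∈ C4 := by
    simp only [Finset.mem_insert, Finset.mem_singleton] at hi
    rcases hi with rfl | rfl <;> decide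
  have h1 := R.tor i h4 x r hr (by rw [hx]; exact dvd_mul_left _ _)
  rw [hx] at h1
  exact TT_odd R.cas R.hk hi ((dvd_mul_right 2 r).trans h1)

end Cfsg.Agent.H196.E7
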