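import Mathlib
import Cfsg.Agent.H196.E7.Base
import Cfsg.Agent.H420.ExcStep
import Cfsg.Agent.H376.CocAlt
import Cfsg.Agent.H437.Spor

/-!
# S3482, rows R0 and R8 (helper196)

* `row_alt` : alternating groups; `row_spor`, `row_sporList` : sporadic groups and the Tits group;
* `row_g2`, `row_f4`, `row_e6`, `row_te6`, `row_td4`, `row_sz`, `row_ree`, `row_tf4` : exceptional groups of small rank.
-/

set_option autoImplicit false

namespace Cfsg.Agent.H196.E7

open Cfsg Cfsg.Agent.H436 Cfsg.Agent.H962.E7 Cfsg.Agent.H420.QR Cfsg.Agent.OrdDiv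

universe u

variable {p k : ℕ} {S : Type u} [Group S]

/-! ### Alternating groups -/

theorem not_sq_dvd_factorial {m r : ℕ} (hr : r.Prime) (h : m < 2 * r) : ¬ r ^ 2 ∣ m.factorial := by
  intro hd
  have h2 := hr.two_le
  have hb : Nat.log r m < 2 := Nat.log_lt_of_lt_pow' (by norm_num) (by nlinarith)
  rw [hr.pow_dvd_factorial_iff hb] at hd
  simp only [Finset.sum_Ico_succ_top (by norm_num : 1 ≤ 1), Finset.Ico_self, Finset.sum_empty, zero_add, pow_one] at hd
  have h3 : m / r < 2 := (Nat.div_lt_iff_lt_mul hr.pos).2 h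
  omega

/-- an element of `A_m` whose order has only primes `> m - 4` has prime order -/
theorem prime_of_order {m N : ℕ} (hm : 7 ≤ m) (hN : 1 < N) (h2 : ∀ r, r.Prime → r ∣ N → r ≠ 2 ∧ m < r + 4)
    {x : alternatingGroup (Fin m)} (hx : orderOf x = N) : m < N + 4 ∧ N ≤ m := by
  have hdvd : N ∣ Nat.card (alternatingGroup (Fin m)) := hx ▸ orderOf_dvd_natCard x
  obtain ⟨r, hr, hrN⟩ := Nat.exists_prime_and_dvd (n := N) (by omega)
  have hrm : r ≤ m := H376.Coc.alt_dvd_le hr (hrN.trans hdvd)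
  obtain ⟨hr2, hr4⟩ := h2 r hr hrN
  obtain ⟨l, rfl⟩ := hrN
  by_cases hl : l = 1
  · subst hl
    rw [mul_one]
    exact ⟨hr4, hrm⟩
  exfalso
  obtain ⟨s, hs, hsl⟩ := Nat.exists_prime_and_dvd hl
  have hsN : s ∣ r * l := hsl.mul_left _
  have hsm : s ≤ m := H376.Coc.alt_dvd_le hs (hsN.trans hdvd)
  obtain ⟨hs2, hs4⟩ := h2 s hs hsN
  have hrs : r * s ∣ r * l := mul_dvd_mul_left _ hsl
  by_cases hne : r = s
  · subst hne
    refine not_sq_dvd_factorial hr (m := m) (by omega) ?_
    have h3 : Nat.card (alternatingGroup (Fin m)) ∣ m.factorial := by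
      have h4 := Subgroup.card_subgroup_dvd_card (alternatingGroup (Fin m))
      rwa [Nat.card_eq_fintype_card (α := Equiv.Perm (Fin m)), Fintype.card_perm, Fintype.card_fin] at h4
    rw [pow_two]
    exact (hrs.trans hdvd).trans h3
  · obtain ⟨t, ht⟩ := hrs
    have ht0 : t ≠ 0 := by
      rintro rfl
      omega
    have h3 : orderOf (x ^ t) = r * s := by
      rw [orderOf_pow_of_dvd ht0 (by rw [hx, ht]; exact dvd_mul_left _ _), hx, ht,
        Nat.mul_div_cancel _ (Nat.pos_of_ne_zero ht0)]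
    have h4 := (S2466.result m r s hr hs hr2 hs2 hne hrm hsm).1 ⟨x ^ t, h3⟩
    omega

/-- **Alternating groups.** -/
theorem row_alt {m : ℕ} (R : Row p k S) (hg : IsNamed (.alt m) S) : False := by
  obtain ⟨e⟩ : Nonempty (S ≃* ↥(alternatingGroup (Fin m))) := hg.real
  have hq := two_le R.hp R.hk
  have key : ∀ i ∈ ({14, 18} : Finset ℕ), 1 < NN (p ^ k) i →
      (∀ r, r.Prime → r ∣ NN (p ^ k) i → Prim (p ^ k) i r) → m < NN (p ^ k) i + 4 ∧ NN (p ^ k) i ≤ m := by
    intro i hi h1 hprim
    have h4 : i ∈ C4 := by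
      simp only [Finset.mem_insert, Finset.mem_singleton] at hi
      rcases hi with rfl | rfl <;> decide
    have h14 : 14 ≤ i := by
      simp only [Finset.mem_insert, Finset.mem_singleton] at hi
      omega
    obtain ⟨x, hx⟩ := (R.top i hi).elt h4
    have hx' : orderOf (e x) = NN (p ^ k) i := by rw [MulEquiv.orderOf_eq, hx]
    have hm : 7 ≤ m := by
      obtain ⟨r, hr, hrN⟩ := Nat.exists_prime_and_dvd (n := NN (p ^ k) i) (by omega)
      have h2 := lt_of_prim (hprim r hr hrN)
      have h3 : r ≤ m := H376.Coc.alt_dvd_le hr (hrN.trans (hx' ▸ orderOf_dvd_natCard (e x)))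
      omega
    refine prime_of_order hm h1 (fun r hr hrN => ?_) hx'
    have h2 := lt_of_prim (hprim r hr hrN)
    refine ⟨by omega, ?_⟩
    by_contra hlt
    obtain ⟨g, hg⟩ := H376.Coc.alt_adj_two (m := m) hr (by omega) (by omega)
    exact nadj_two R hi (hprim r hr hrN) ⟨e.symm g, by rw [MulEquiv.orderOf_eq, hg]⟩
  obtain ⟨a1, a2⟩ := key 14 (by decide) (one_lt_NN14 hq) fun r hr hd => prim_NN14 (by omega) hr hd
  obtain ⟨b1, b2⟩ := key 18 (by decide) (one_lt_NN18 hq) fun r hr hd => prim_NN18 (by omega) hr hd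
  rcases NN_far hq with h | h <;> omega

/-! ### Sporadic groups -/

theorem spor_smooth' : ∀ n ∈ H437.sporList, n ∣ Nat.factorial 71 := by decide +kernel

theorem spor_nineteen : ∀ n ∈ H437.sporList, ¬ 361 ∣ n ∧ ¬ 703 ∣ n ∧ ¬ 1369 ∣ n := by decide +kernel

theorem prim_127 : Prim 2 7 127 := by
  have : Fact (Nat.Prime 7) := ⟨by norm_num⟩
  refine prim_of_orderOf (by norm_num) (by norm_num) (by norm_num) ?_
  exact orderOf_eq_prime (by decide) (by decide)

/-- **Sporadic groups and the Tits group, by order.** -/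
theorem row_sporList (R : Row p k S) (hS : Nat.card S ∈ H437.sporList) : False := by
  have hq := two_le R.hp R.hk
  have hbd : ∀ r : ℕ, r.Prime → r ∣ Nat.card S → r ≤ 71 := fun r hr hd =>
    (Nat.Prime.dvd_factorial hr).1 (hd.trans (spor_smooth' _ hS))
  obtain ⟨h19, h703, h37⟩ := spor_nineteen _ hS
  obtain ⟨x, hx⟩ := (R.top 18 (by decide)).elt (by decide)
  have hdvd : NN (p ^ k) 18 ∣ Nat.card S := hx ▸ orderOf_dvd_natCard x
  have hpr : ∀ r : ℕ, r.Prime → r ∣ NN (p ^ k) 18 → r = 19 ∨ r = 37 := by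
    intro r hr hd
    have h1 := hbd r hr (hd.trans hdvd)
    obtain ⟨t, ht⟩ := dvd_sub_one (prim_NN18 (by omega) hr hd)
    have h2 := hr.two_le
    have h3 : t = 0 ∨ t = 1 ∨ t = 2 ∨ t = 3 := by omega
    rcases h3 with rfl | rfl | rfl | rfl
    · omega
    · left; omega
    · right; omega
    · exfalso
      have : r = 55 := by omega
      subst this
      norm_num at hr
  have hsm : NN (p ^ k) 18 ≤ 37 := by
    obtain ⟨r, hr, hrN⟩ := Nat.exists_prime_and_dvd (n := NN (p ^ k) 18) (by have := one_lt_NN18 hq; omega)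
    obtain ⟨l, hl⟩ := hrN
    by_cases hl1 : l = 1
    · subst hl1
      have := hpr r hr (by rw [hl]; exact dvd_mul_right _ _)
      omega
    exfalso
    obtain ⟨s, hs, hsl⟩ := Nat.exists_prime_and_dvd hl1
    have hd : r * s ∣ Nat.card S := (mul_dvd_mul_left r hsl).trans (hl ▸ hdvd)
    rcases hpr r hr (by rw [hl]; exact dvd_mul_right _ _) with rfl | rfl <;>
      rcases hpr s hs (by rw [hl]; exact hsl.mul_left _) with rfl | rfl
    · exact h19 hd
    · exact h703 hd
    · exact h703 (by rwa [mul_comm] at hd)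
    · exact h37 hd
  have hq2 := NN18_small hq hsm
  have hp2 : p = 2 := by
    have h1 : p ∣ 2 := hq2 ▸ dvd_pow_self p (by have := R.hk; omega)
    exact (Nat.prime_dvd_prime_iff_eq R.hp Nat.prime_two).1 h1
  have h1 := (R.even hp2 7 (by decide)).dvd 127 (by rw [hq2]; exact prim_127)
  have := hbd 127 (by norm_num) h1
  omega

/-- **Sporadic groups and the Tits group.** -/
theorem row_spor (R : Row p k S) (h : Lie.IsoTits S ∨ IsSporadicGroup S) : False :=
  row_sporList R (H437.spor_mem h)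

/-- the same, by name -/
theorem row_spor_name {g : Grp} (R : Row p k S) (hg : IsNamed g S) (h : ordN g ∈ H437.sporList) : False :=
  row_sporList R (by rw [hg.ord]; exact h)

/-! ### Exceptional groups of small rank -/

theorem no_cover {v c : ℕ} (R : Row p k S) (hv : IsPrimePow v) (hc : Cover S v c) (h5 : c ≤ 5) : False := by
  classical
  obtain ⟨ρ, hpr, hdv, hna, h3, h7⟩ := exists_coq R
  obtain ⟨w, f, hw, hf, rfl⟩ := (isPrimePow_nat_iff v).1 hv
  have key : (ρ.erase w).card ≤ c := by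
    refine hc.card_le _ (fun r hr => ?_) fun r hr s hs hrs => ?_
    · obtain ⟨hrp, hrC⟩ := Finset.mem_erase.1 hr
      refine ⟨hpr r hrC, h3 r hrC, fun hd => hrp ?_, hdv r hrC⟩
      exact (Nat.prime_dvd_prime_iff_eq (hpr r hrC) hw).1 ((hpr r hrC).dvd_of_dvd_pow hd)
    · exact hna r (Finset.mem_of_mem_erase hr) s (Finset.mem_of_mem_erase hs) hrs
  have h2 := Finset.pred_card_le_card_erase (s := ρ) (a := w)
  omega

variable {v : ℕ}

theorem row_g2 (R : Row p k S) (hg : IsNamed (.g2 v) S) : False :=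
  no_cover R (hg.cond : 3 ≤ v ∧ IsPrimePow v).2 (cov_g2 hg) (by norm_num)

theorem row_f4 (R : Row p k S) (hg : IsNamed (.f4 v) S) : False :=
  no_cover R (hg.cond : IsPrimePow v) (cov_f4 hg) (by norm_num)

theorem row_e6 (R : Row p k S) (hg : IsNamed (.e6 v) S) : False :=
  no_cover R (hg.cond : IsPrimePow v) (cov_e6 hg) (by norm_num)

theorem row_te6 (R : Row p k S) (hg : IsNamed (.te6 v) S) : False :=
  no_cover R (hg.cond : IsPrimePow v) (cov_te6 hg) (by norm_num)

theorem row_td4 (R : Row p k S) (hg : IsNamed (.td4 v) S) : False :=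
  no_cover R (hg.cond : IsPrimePow v) (cov_td4 hg) (by norm_num)

theorem row_sz (R : Row p k S) (hg : IsNamed (.sz v) S) : False :=
  no_cover R (Nat.prime_two.isPrimePow.pow (by norm_num)) (cov_sz hg) (by norm_num)

theorem row_ree (R : Row p k S) (hg : IsNamed (.ree v) S) : False :=
  no_cover R (Nat.prime_three.isPrimePow.pow (by norm_num)) (cov_ree hg) (by norm_num)

theorem row_tf4 (R : Row p k S) (hg : IsNamed (.tf4 v) S) : False :=
  no_cover R (Nat.prime_two.isPrimePow.pow (by norm_num)) (cov_tf4 hg) (by norm_num)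

theorem row_tits (R : Row p k S) (hg : IsNamed .tits S) : False := row_spor_name R hg (by decide +kernel)

/-- the names of the sporadic groups and of the Tits group -/
def sporNames : List Grp :=
  [.m11, .m12, .m22, .m23, .m24, .j1, .j2, .j3, .j4, .co1, .co2, .co3, .mcl, .hs, .suz, .he, .ru, .on, .ly,
    .fi22, .fi23, .fi24, .hn, .th, .b, .m, .tits]

theorem ord_mem : ∀ g ∈ sporNames, ordN g ∈ H437.sporList := by decide +kernel

theorem row_sporadic {g : Grp} (R : Row p k S) (hg : IsNamed g S) (h : g ∈ sporNames) : False :=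
  row_spor_name R hg (ord_mem g h)

end Cfsg.Agent.H196.E7
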